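import Groth.Agent.PerfStageLib.Matrix
import Mathlib.Algebra.Category.Ring.FilteredColimits
import Mathlib.CategoryTheory.Limits.ConcreteCategory.Basic

/-!
# Bounded complexes of finite projective modules over a filtered colimit of rings
-/

set_option autoImplicit false
set_option linter.all false
set_option maxHeartbeats 1000000

universe u

open CategoryTheory CategoryTheory.Limits Matrix

noncomputable section

namespace PerfStageLib

section Model

variable {R : Type u} [CommRing R] (E : CochainComplex (ModuleCat.{u} R) ℤ) (a b : ℤ) (n : ℕ)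
  (s : ∀ i, E.X i →ₗ[R] (Fin n → R)) (p : ∀ i, (Fin n → R) →ₗ[R] E.X i)

/-- The index set. -/
abbrev Idx := Finset.Icc a b × Fin n

/-- The degree of an index. -/
def deg (q : Idx a b n) : ℤ := q.1.1

/-- Into the model. -/
def inc (i : ℤ) : E.X i →ₗ[R] (Idx a b n → R) :=
  LinearMap.pi fun q => if q.1.1 = i then (LinearMap.proj q.2).comp (s i) else 0

/-- Out of the model. -/
def out (i : ℤ) : (Idx a b n → R) →ₗ[R] E.X i :=
  if h : i ∈ Finset.Icc a b then (p i).comp (LinearMap.pi fun l => LinearMap.proj ((⟨i, h⟩, l) : Idx a b n)) else 0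

variable {E a b n} {s p}

theorem inc_support {i : ℤ} (x : E.X i) (q : Idx a b n) (hq : deg a b n q ≠ i) : inc E a b n s i x q = 0 := by
  show (if q.1.1 = i then (LinearMap.proj q.2).comp (s i) else 0 : E.X i →ₗ[R] R) x = 0
  rw [if_neg (show q.1.1 ≠ i from hq)]
  rfl

theorem out_inc (hE : DRing.VanishesOutside E a b) (hsp : ∀ i, a ≤ i → i ≤ b → ∀ x, p i (s i x) = x) (i : ℤ)
    (x : E.X i) : out E a b n p i (inc E a b n s i x) = x := by
  by_cases h : i ∈ Finset.Icc a b
  · rw [out, dif_pos h]
    have hc := Finset.mem_Icc.1 h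
    refine Eq.trans ?_ (hsp i hc.1 hc.2 x)
    refine congrArg (p i) (funext fun l => ?_)
    show (if i = i then (LinearMap.proj l).comp (s i) else 0 : E.X i →ₗ[R] R) x = s i x l
    rw [if_pos rfl]
    rfl
  · haveI := ModuleCat.subsingleton_of_isZero (hE i (by rw [Finset.mem_Icc] at h; omega))
    exact Subsingleton.elim _ _

theorem out_single (i : ℤ) (q : Idx a b n) (hq : deg a b n q ≠ i) : out E a b n p i (Pi.single q 1) = 0 := by
  by_cases h : i ∈ Finset.Icc a b
  · rw [out, dif_pos h]
    refine Eq.trans (congrArg (p i) (funext fun l => ?_)) (map_zero (p i))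
    exact Pi.single_eq_of_ne (fun hh => hq (by rw [← hh]; rfl)) _
  · rw [out, dif_neg h]
    rfl

theorem vecMul_rows {i : ℤ} (v : Idx a b n → R) (hv : ∀ q, deg a b n q ≠ i → v q = 0)
    (F : ∀ k : ℤ, E.X k →ₗ[R] (Idx a b n → R)) :
    v ᵥ* Matrix.of (fun q => F (deg a b n q) (out E a b n p (deg a b n q) (Pi.single q 1))) =
      F i (out E a b n p i v) := by
  conv_rhs => rw [pi_eq_sum_univ' v, map_sum, map_sum]
  simp only [map_smul]
  funext r
  rw [Finset.sum_apply]
  refine Finset.sum_congr rfl fun q _ => ?_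
  by_cases hq : deg a b n q = i
  · subst hq
    rfl
  · show v q * _ = v q * _
    rw [hv q hq, zero_mul, zero_mul]

variable (hE : DRing.VanishesOutside E a b) (hsp : ∀ i, a ≤ i → i ≤ b → ∀ x, p i (s i x) = x)

/-- The idempotent. -/
def eMat : Matrix (Idx a b n) (Idx a b n) R :=
  Matrix.of fun q => inc E a b n s (deg a b n q) (out E a b n p (deg a b n q) (Pi.single q 1))

/-- The differential. -/
def dMat : Matrix (Idx a b n) (Idx a b n) R :=
  Matrix.of fun q =>
    inc E a b n s (deg a b n q + 1) ((E.d (deg a b n q) (deg a b n q + 1)).hom (out E a b n p (deg a b n q) (Pi.single q 1)))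

theorem inc_vecMul_eMat {i : ℤ} (x : E.X i) (hx : out E a b n p i (inc E a b n s i x) = x) :
    inc E a b n s i x ᵥ* eMat (E := E) (s := s) (p := p) = inc E a b n s i x := by
  refine (vecMul_rows _ (inc_support x) (fun k => inc E a b n s k)).trans ?_
  rw [hx]

theorem inc_vecMul_dMat {i : ℤ} (x : E.X i) (hx : out E a b n p i (inc E a b n s i x) = x) :
    inc E a b n s i x ᵥ* dMat (E := E) (s := s) (p := p) = inc E a b n s (i + 1) ((E.d i (i + 1)).hom x) := by
  refine (vecMul_rows _ (inc_support x) (fun k => (inc E a b n s (k + 1)).comp (E.d k (k + 1)).hom)).trans ?_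
  rw [hx]
  rfl

include hE hsp in
/-- The matrix model of a complex. -/
def model : Data R (Idx a b n) (deg a b n) where
  e := eMat (E := E) (s := s) (p := p)
  D := dMat (E := E) (s := s) (p := p)
  he q r h := inc_support _ r h
  hD q r h := inc_support _ r h
  idem := Matrix.ext fun q r => congrFun (inc_vecMul_eMat _ (out_inc hE hsp _ _)) r
  left := Matrix.ext fun q r => congrFun (inc_vecMul_dMat _ (out_inc hE hsp _ _)) r
  right := Matrix.ext fun q r => congrFun (inc_vecMul_eMat _ (out_inc hE hsp _ _)) r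
  sq := Matrix.ext fun q r => by
    refine (congrFun (inc_vecMul_dMat _ (out_inc hE hsp _ _)) r).trans ?_
    rw [show (E.d (deg a b n q + 1) (deg a b n q + 1 + 1)).hom ((E.d (deg a b n q) (deg a b n q + 1)).hom
        (out E a b n p (deg a b n q) (Pi.single q 1))) = 0 from
      congrArg (fun t : E.X (deg a b n q) ⟶ E.X (deg a b n q + 1 + 1) =>
        t.hom (out E a b n p (deg a b n q) (Pi.single q 1))) (E.d_comp_d _ _ _), map_zero]
    rfl

/-- The model is the complex. -/
def modelIso : (model hE hsp).cx ≅ E :=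
  HomologicalComplex.Hom.isoOfComponents
    (fun i => LinearEquiv.toModuleIso
      { (out E a b n p i).comp ((model hE hsp).term i).subtype with
        invFun := fun x => ⟨inc E a b n s i x, inc_vecMul_eMat x (out_inc hE hsp i x), fun q hq => inc_support x q hq⟩
        left_inv := fun v => Subtype.ext (((vecMul_rows (v : Idx a b n → R) v.2.2
          (fun k => inc E a b n s k)).symm.trans v.2.1))
        right_inv := fun x => out_inc hE hsp i x })
    (by
      rintro i _ rfl
      refine ModuleCat.hom_ext (LinearMap.ext fun (v : (model hE hsp).term i) => ?_)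
      show (E.d i (i + 1)).hom (out E a b n p i (v : Idx a b n → R)) =
        out E a b n p (i + 1) (((model hE hsp).cx.d i (i + 1)).hom v : (model hE hsp).term (i + 1)).1
      rw [Data.cx_d_apply]
      refine Eq.trans ?_ (congrArg (out E a b n p (i + 1)) (vecMul_rows (v : Idx a b n → R) v.2.2
        (fun k => (inc E a b n s (k + 1)).comp (E.d k (k + 1)).hom)).symm)
      exact (out_inc hE hsp (i + 1) _).symm)

theorem deg_mem (q : Idx a b n) : a ≤ deg a b n q ∧ deg a b n q ≤ b := Finset.mem_Icc.1 q.1.2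

end Model

theorem exists_sections {R : Type u} [CommRing R] (E : CochainComplex (ModuleCat.{u} R) ℤ) (a b : ℤ)
    (hf : ∀ i, Module.Finite R (E.X i) ∧ Module.Projective R (E.X i)) :
    ∃ (n : ℕ) (s : ∀ i, E.X i →ₗ[R] (Fin n → R)) (p : ∀ i, (Fin n → R) →ₗ[R] E.X i),
      ∀ i, a ≤ i → i ≤ b → ∀ x, p i (s i x) = x := by
  classical
  choose m g hg using fun i => (haveI := (hf i).1; Module.Finite.exists_fin' R (E.X i))
  let n := (Finset.Icc a b).sup m
  let p : ∀ i, (Fin n → R) →ₗ[R] E.X i := fun i =>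
    if h : m i ≤ n then (g i).comp (LinearMap.funLeft R R (Fin.castLE h)) else 0
  have hp : ∀ i, a ≤ i → i ≤ b → Function.Surjective (p i) := fun i hi hi' => by
    have h : m i ≤ n := Finset.le_sup (f := m) (Finset.mem_Icc.2 ⟨hi, hi'⟩)
    simp only [p, dif_pos h]
    exact (hg i).comp (LinearMap.funLeft_surjective_of_injective R R _ (Fin.castLE_injective h))
  have key : ∀ i, ∃ s : E.X i →ₗ[R] (Fin n → R), a ≤ i → i ≤ b → (p i).comp s = LinearMap.id := fun i => by
    by_cases h : a ≤ i ∧ i ≤ b
    · haveI := (hf i).2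
      obtain ⟨s, hs⟩ := Module.projective_lifting_property (p i) LinearMap.id (hp i h.1 h.2)
      exact ⟨s, fun _ _ => hs⟩
    · exact ⟨0, fun h₁ h₂ => absurd ⟨h₁, h₂⟩ h⟩
  choose s hs using key
  exact ⟨n, s, p, fun i hi hi' x => LinearMap.congr_fun (hs i hi hi') x⟩

section Colimit

variable {J : Type u} [SmallCategory J] [IsFiltered J] (F : J ⥤ CommRingCat.{u}) {c : Cocone F} (hc : IsColimit c)

include hc in
theorem exists_lift {ι : Type} [Fintype ι] (x : ι → c.pt) :
    ∃ (j : J) (y : ι → F.obj j), ∀ i, (c.ι.app j).hom (y i) = x i := by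
  classical
  choose j y hy using fun i => Concrete.isColimit_exists_rep F hc (x i)
  obtain ⟨k, hk⟩ := IsFiltered.sup_objs_exists (Finset.univ.image j)
  let g := fun i => (hk (Finset.mem_image_of_mem j (Finset.mem_univ i))).some
  exact ⟨k, fun i => (F.map (g i)).hom (y i), fun i =>
    (ConcreteCategory.congr_hom (c.w (g i)) (y i)).trans (hy i)⟩

include hc in
theorem exists_eq {ι : Type} (t : Finset ι) (j : J) (y z : ι → F.obj j)
    (h : ∀ i ∈ t, (c.ι.app j).hom (y i) = (c.ι.app j).hom (z i)) :
    ∃ (k : J) (g : j ⟶ k), ∀ i ∈ t, (F.map g).hom (y i) = (F.map g).hom (z i) := by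
  classical
  induction t using Finset.induction with
  | empty => exact ⟨j, 𝟙 j, by simp⟩
  | @insert i t hi ih =>
    obtain ⟨k, g, hg⟩ := ih fun i' hi' => h i' (Finset.mem_insert_of_mem hi')
    obtain ⟨l, f₁, f₂, hf⟩ := Concrete.isColimit_exists_of_rep_eq F hc ((F.map g).hom (y i)) ((F.map g).hom (z i))
      (((ConcreteCategory.congr_hom (c.w g) (y i)).trans (h i (Finset.mem_insert_self i t))).trans
        (ConcreteCategory.congr_hom (c.w g) (z i)).symm)
    refine ⟨IsFiltered.coeq f₁ f₂, g ≫ f₁ ≫ IsFiltered.coeqHom f₁ f₂, fun i' hi' => ?_⟩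
    have e : ∀ w, (F.map (g ≫ f₁ ≫ IsFiltered.coeqHom f₁ f₂)).hom w =
        (F.map (IsFiltered.coeqHom f₁ f₂)).hom ((F.map f₁).hom ((F.map g).hom w)) := fun w => by simp
    rw [e, e]
    rcases Finset.mem_insert.1 hi' with rfl | hi'
    · refine (congrArg (F.map (IsFiltered.coeqHom f₁ f₂)).hom hf).trans ?_
      have := congrArg (fun φ => (F.map φ).hom ((F.map g).hom (z i'))) (IsFiltered.coeq_condition f₁ f₂).symm
      simpa using this
    · rw [hg i' hi']

variable {ι : Type} [Fintype ι] [DecidableEq ι] {deg : ι → ℤ}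

include hc in
/-- Matrix data descend to a finite stage. -/
theorem exists_descend (S : Data c.pt ι deg) :
    ∃ (j : J) (T : Data (F.obj j) ι deg), T.map (c.ι.app j).hom = S := by
  classical
  obtain ⟨j, y, hy⟩ := exists_lift F hc (Sum.elim (fun pq : ι × ι => S.e pq.1 pq.2) (fun pq : ι × ι => S.D pq.1 pq.2))
  let φ := (c.ι.app j).hom
  let e : Matrix ι ι (F.obj j) := Matrix.of fun p q => if deg q = deg p then y (Sum.inl (p, q)) else 0
  let D : Matrix ι ι (F.obj j) := Matrix.of fun p q => if deg q = deg p + 1 then y (Sum.inr (p, q)) else 0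
  have he : e.map φ = S.e := Matrix.ext fun p q => by
    by_cases h : deg q = deg p
    · exact (congrArg φ (if_pos h)).trans (hy (Sum.inl (p, q)))
    · exact ((congrArg φ (if_neg h)).trans (map_zero φ)).trans (S.he p q h).symm
  have hD : D.map φ = S.D := Matrix.ext fun p q => by
    by_cases h : deg q = deg p + 1
    · exact (congrArg φ (if_pos h)).trans (hy (Sum.inr (p, q)))
    · exact ((congrArg φ (if_neg h)).trans (map_zero φ)).trans (S.hD p q h).symm
  let L : Fin 4 → Matrix ι ι (F.obj j) := ![e * e, e * D, D * e, D * D]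
  let R' : Fin 4 → Matrix ι ι (F.obj j) := ![e, D, D, 0]
  have hLR : ∀ k, (L k).map φ = (R' k).map φ := fun k => by
    fin_cases k
    · show (e * e).map φ = e.map φ; rw [Matrix.map_mul, he, S.idem]
    · show (e * D).map φ = D.map φ; rw [Matrix.map_mul, he, hD, S.left]
    · show (D * e).map φ = D.map φ; rw [Matrix.map_mul, he, hD, S.right]
    · show (D * D).map φ = (0 : Matrix ι ι (F.obj j)).map φ; rw [Matrix.map_mul, hD, S.sq, Matrix.map_zero _ (map_zero φ)]
  obtain ⟨k, g, hg⟩ := exists_eq F hc (Finset.univ : Finset (Fin 4 × ι × ι)) j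
    (fun x => L x.1 x.2.1 x.2.2) (fun x => R' x.1 x.2.1 x.2.2)
    (fun x _ => congrFun (congrFun (hLR x.1) x.2.1) x.2.2)
  let ψ := (F.map g).hom
  have hmap : ∀ m, (L m).map ψ = (R' m).map ψ := fun m => Matrix.ext fun p q => hg (m, p, q) (Finset.mem_univ _)
  refine ⟨k,
    { e := e.map ψ
      D := D.map ψ
      he := fun p q h => (congrArg ψ (if_neg h)).trans (map_zero ψ)
      hD := fun p q h => (congrArg ψ (if_neg h)).trans (map_zero ψ)
      idem := by rw [← Matrix.map_mul]; exact hmap 0
      left := by rw [← Matrix.map_mul]; exact hmap 1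
      right := by rw [← Matrix.map_mul]; exact hmap 2
      sq := by rw [← Matrix.map_mul]; exact (hmap 3).trans (Matrix.map_zero _ (map_zero ψ)) }, ?_⟩
  have hcomp : ∀ M : Matrix ι ι (F.obj j), (M.map ψ).map (c.ι.app k).hom = M.map φ := fun M =>
    Matrix.ext fun p q => ConcreteCategory.congr_hom (c.w g) (M p q)
  obtain ⟨eS, DS, _, _, _, _, _, _⟩ := S
  simp only [Data.map, Data.mk.injEq]
  exact ⟨(hcomp e).trans he, (hcomp D).trans hD⟩

end Colimit

end PerfStageLib
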