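import Groth.Agent.DRingLib.LBaseChange
import Groth.Agent.DRingLib.Amplitude
import Mathlib.LinearAlgebra.Matrix.ToLin
import Mathlib.Algebra.Category.ModuleCat.ChangeOfRings
import Mathlib.RingTheory.Finiteness.Cardinality

/-!
# Bounded complexes of finite projective modules as idempotent matrices
-/

set_option autoImplicit false
set_option linter.all false
set_option maxHeartbeats 1000000

universe u

open CategoryTheory Matrix

noncomputable section

namespace PerfStageLib

/-- A block idempotent and a differential. -/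
structure Data (A : Type u) [CommRing A] (ι : Type) [Fintype ι] (deg : ι → ℤ) where
  e : Matrix ι ι A
  D : Matrix ι ι A
  he : ∀ p q, deg q ≠ deg p → e p q = 0
  hD : ∀ p q, deg q ≠ deg p + 1 → D p q = 0
  idem : e * e = e
  left : e * D = D
  right : D * e = D
  sq : D * D = 0

variable {A R : Type u} [CommRing A] [CommRing R] {ι : Type} [Fintype ι] [DecidableEq ι] {deg : ι → ℤ}

namespace Data

variable (S : Data A ι deg)

/-- The term in degree `i`. -/
def term (i : ℤ) : Submodule A (ι → A) where
  carrier := {v | v ᵥ* S.e = v ∧ ∀ p, deg p ≠ i → v p = 0}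
  add_mem' := fun {v w} hv hw => ⟨by rw [add_vecMul, hv.1, hw.1], fun p hp => by simp [hv.2 p hp, hw.2 p hp]⟩
  zero_mem' := ⟨zero_vecMul _, fun _ _ => rfl⟩
  smul_mem' := fun c v hv => ⟨by rw [smul_vecMul, hv.1], fun p hp => by simp [hv.2 p hp]⟩

theorem vecMul_support {v : ι → A} {i : ℤ} (hv : ∀ p, deg p ≠ i → v p = 0) (M : Matrix ι ι A) (s : ℤ)
    (hM : ∀ p q, deg q ≠ deg p + s → M p q = 0) (q : ι) (hq : deg q ≠ i + s) : (v ᵥ* M) q = 0 := by
  refine Finset.sum_eq_zero fun p _ => ?_
  show v p * M p q = 0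
  by_cases hp : deg p = i
  · rw [hM p q (by omega), mul_zero]
  · rw [hv p hp, zero_mul]

/-- The projection onto the term. -/
def proj (i : ℤ) : (ι → A) →ₗ[A] S.term i :=
  LinearMap.codRestrict (S.term i)
    (S.e.vecMulLinear.comp (LinearMap.pi fun p => if deg p = i then LinearMap.proj p else 0))
    fun v => by
      refine ⟨?_, fun q hq => ?_⟩
      · show (_ ᵥ* S.e) ᵥ* S.e = _
        rw [vecMul_vecMul, S.idem]
        rfl
      · refine vecMul_support (i := i) (fun p hp => ?_) S.e 0 (fun p q h => S.he p q (by simpa using h)) q (by simpa using hq)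
        show (if deg p = i then (LinearMap.proj p : (ι → A) →ₗ[A] A) else 0) v = 0
        rw [if_neg hp]
        rfl

theorem proj_self {i : ℤ} (v : S.term i) : S.proj i (v : ι → A) = v := by
  refine Subtype.ext ?_
  show (fun p => (if deg p = i then (LinearMap.proj p : (ι → A) →ₗ[A] A) else 0) (v : ι → A)) ᵥ* S.e = _
  have h : (fun p => (if deg p = i then (LinearMap.proj p : (ι → A) →ₗ[A] A) else 0) (v : ι → A)) = (v : ι → A) :=
    funext fun p => by
      by_cases hp : deg p = i
      · rw [if_pos hp]; rfl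
      · rw [if_neg hp]; exact (v.2.2 p hp).symm
  rw [h, v.2.1]

theorem finite_term (i : ℤ) : Module.Finite A (S.term i) :=
  Module.Finite.of_surjective (S.proj i) fun v => ⟨_, S.proj_self v⟩

theorem projective_term (i : ℤ) : Module.Projective A (S.term i) :=
  Module.Projective.of_split (S.term i).subtype (S.proj i) (LinearMap.ext fun v => S.proj_self v)

/-- The differential. -/
def d (i : ℤ) : S.term i →ₗ[A] S.term (i + 1) :=
  LinearMap.codRestrict (S.term (i + 1)) (S.D.vecMulLinear.comp (S.term i).subtype) fun v =>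
    ⟨by show (_ ᵥ* S.D) ᵥ* S.e = _; rw [vecMul_vecMul, S.right]; rfl,
      fun q hq => vecMul_support (i := i) (s := 1) v.2.2 S.D S.hD q hq⟩

/-- The complex. -/
def cx : CochainComplex (ModuleCat.{u} A) ℤ :=
  CochainComplex.of (fun i => ModuleCat.of A (S.term i)) (fun i => ModuleCat.ofHom (S.d i)) fun i => by
    refine ModuleCat.hom_ext (LinearMap.ext fun v => Subtype.ext ?_)
    show ((v : ι → A) ᵥ* S.D) ᵥ* S.D = 0
    rw [vecMul_vecMul, S.sq, vecMul_zero]

theorem cx_d_apply (i : ℤ) (v : S.term i) :
    ((S.cx.d i (i + 1)).hom v : S.term (i + 1)).1 = (v : ι → A) ᵥ* S.D := by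
  have h : S.cx.d i (i + 1) = ModuleCat.ofHom (S.d i) :=
    CochainComplex.of_d (fun i => ModuleCat.of A (S.term i)) (fun i => ModuleCat.ofHom (S.d i)) i
  rw [h]
  rfl

theorem isZero_cx (i : ℤ) (hi : ∀ p, deg p ≠ i) : Limits.IsZero (S.cx.X i) := by
  haveI : Subsingleton (S.term i) := ⟨fun v w => Subtype.ext (funext fun p => by rw [v.2.2 p (hi p), w.2.2 p (hi p)])⟩
  exact ModuleCat.isZero_of_subsingleton (ModuleCat.of A (S.term i))

/-- Transport along a ring map. -/
def map (φ : A →+* R) : Data R ι deg where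
  e := S.e.map φ
  D := S.D.map φ
  he p q h := by simp [S.he p q h]
  hD p q h := by simp [S.hD p q h]
  idem := by rw [← Matrix.map_mul, S.idem]
  left := by rw [← Matrix.map_mul, S.left]
  right := by rw [← Matrix.map_mul, S.right]
  sq := by rw [← Matrix.map_mul, S.sq, Matrix.map_zero _ (map_zero φ)]

variable (φ : A →+* R)

/-- Coefficientwise image. -/
def push (i : ℤ) : ModuleCat.of A (S.term i) ⟶ (ModuleCat.restrictScalars φ).obj (ModuleCat.of R ((S.map φ).term i)) :=
  ModuleCat.ofHom (Y := (ModuleCat.restrictScalars φ).obj (ModuleCat.of R ((S.map φ).term i)))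
    { toFun := fun v => ⟨fun p => φ ((v : ι → A) p),
        ⟨funext fun q => by
          have := congrFun (congrArg (fun w : ι → A => fun p => φ (w p)) v.2.1) q
          simp only [vecMul, dotProduct, map_sum, map_mul] at this
          exact this,
        fun p hp => by simp [v.2.2 p hp]⟩⟩
      map_add' := fun v w => Subtype.ext (funext fun p => map_add φ _ _)
      map_smul' := fun c v => Subtype.ext (funext fun p => map_mul φ c _) }

theorem push_proj (i : ℤ) (p : ι) :
    (S.push φ i).hom (S.proj i (Pi.single p 1)) = (S.map φ).proj i (Pi.single p 1) := by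
  refine Subtype.ext (funext fun q => ?_)
  show φ (∑ x, (if deg x = i then (LinearMap.proj x : (ι → A) →ₗ[A] A) else 0) (Pi.single p 1) * S.e x q) =
    ∑ x, (if deg x = i then (LinearMap.proj x : (ι → R) →ₗ[R] R) else 0) (Pi.single p 1) * φ (S.e x q)
  rw [map_sum]
  refine Finset.sum_congr rfl fun x _ => ?_
  rw [map_mul]
  congr 1
  by_cases hx : deg x = i
  · rw [if_pos hx, if_pos hx]
    simp [Pi.single_apply, apply_ite φ]
  · rw [if_neg hx, if_neg hx]
    simp

theorem isIso_of_section {X Z : ModuleCat.{u} R} (U : X ⟶ Z) (x : ι → X) (emb : Z →ₗ[R] (ι → R))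
    (hx : ∀ z : Z, U.hom (∑ p, emb z p • x p) = z)
    (hinv : ∀ w : Z ⟶ X, (∀ z : Z, w.hom z = ∑ p, emb z p • x p) → U ≫ w = 𝟙 X) : IsIso U := by
  let w : Z ⟶ X := ModuleCat.ofHom (∑ p, ((LinearMap.proj p : (ι → R) →ₗ[R] R).comp emb).smulRight (x p))
  have hw : ∀ z : Z, w.hom z = ∑ p, emb z p • x p := fun z => by simp [w]
  exact ⟨w, hinv w hw, ModuleCat.hom_ext (LinearMap.ext fun z => (congrArg U.hom (hw z)).trans (hx z))⟩

/-- Base change of the terms. -/
theorem isIso_transpose_push (i : ℤ) :
    IsIso (((ModuleCat.extendRestrictScalarsAdj.{u, u, u} φ).homEquiv _ _).symm (S.push φ i)) := by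
  let un := (ModuleCat.extendRestrictScalarsAdj.{u, u, u} φ).unit.app (ModuleCat.of A (S.term i))
  have hU : ∀ v : S.term i,
      (((ModuleCat.extendRestrictScalarsAdj.{u, u, u} φ).homEquiv _ _).symm (S.push φ i)).hom (un.hom v) =
        (S.push φ i).hom v := fun v => by
    have := ((ModuleCat.extendRestrictScalarsAdj.{u, u, u} φ).homEquiv _ _).apply_symm_apply (S.push φ i)
    rw [Adjunction.homEquiv_unit] at this
    exact congrArg (fun t : ModuleCat.of A (S.term i) ⟶ _ => t.hom v) this
  refine isIso_of_section _ (fun p => un.hom (S.proj i (Pi.single p 1))) ((S.map φ).term i).subtype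
    (fun v => ?_) (fun w hw => ?_)
  · rw [map_sum]
    refine Eq.trans (Finset.sum_congr rfl fun p _ => (map_smul _ _ _).trans
      (congrArg (((S.map φ).term i).subtype v p • ·) ((hU _).trans (S.push_proj φ i p)))) ?_
    show ∑ p, (v : ι → R) p • (S.map φ).proj i (Pi.single p 1) = v
    simp only [← map_smul]
    rw [← map_sum, ← pi_eq_sum_univ', proj_self]
  · apply ((ModuleCat.extendRestrictScalarsAdj.{u, u, u} φ).homEquiv _ _).injective
    rw [Adjunction.homEquiv_unit, Adjunction.homEquiv_unit]
    refine ModuleCat.hom_ext (LinearMap.ext fun v => ?_)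
    show w.hom (_ : (ModuleCat.of R ((S.map φ).term i))) = un.hom v
    refine (congrArg w.hom (hU v)).trans ((hw _).trans ?_)
    have hv : (v : S.term i) = ∑ p, (v : ι → A) p • S.proj i (Pi.single p 1) := by
      conv_lhs => rw [← S.proj_self v, pi_eq_sum_univ' (v : ι → A), map_sum]
      simp only [map_smul]
    conv_rhs => rw [hv, map_sum]
    exact Finset.sum_congr rfl fun p _ => (map_smul un.hom _ _).symm

/-- Base change of the complex. -/
def cxBaseChange : ((ModuleCat.extendScalars.{u, u, u} φ).mapHomologicalComplex (ComplexShape.up ℤ)).obj S.cx ≅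
    (S.map φ).cx :=
  HomologicalComplex.Hom.isoOfComponents (fun i => @asIso _ _ _ _ _ (S.isIso_transpose_push φ i))
    (by
      rintro i _ rfl
      show (((ModuleCat.extendRestrictScalarsAdj.{u, u, u} φ).homEquiv _ _).symm (S.push φ i)) ≫
          (S.map φ).cx.d i (i + 1) =
        (ModuleCat.extendScalars φ).map (S.cx.d i (i + 1)) ≫
          ((ModuleCat.extendRestrictScalarsAdj.{u, u, u} φ).homEquiv _ _).symm (S.push φ (i + 1))
      refine ((Adjunction.homEquiv_naturality_right_symm _ (S.push φ i) _).symm.trans ?_).trans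
        (Adjunction.homEquiv_naturality_left_symm _ _ _)
      congr 1
      refine ModuleCat.hom_ext (LinearMap.ext fun v => Subtype.ext ?_)
      refine ((S.map φ).cx_d_apply i ((S.push φ i).hom v)).trans ?_
      refine Eq.trans ?_ (congrArg (fun w : ι → A => fun p => φ (w p)) (S.cx_d_apply i v)).symm
      funext q
      show ∑ p, φ ((v : ι → A) p) * φ (S.D p q) = φ (∑ p, (v : ι → A) p * S.D p q)
      simp [map_sum, map_mul])

end Data

end PerfStageLib
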